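import Groth.Prelude.Def_Found
import Groth.Prelude.Def_EGA4b
import Groth.Agent.H05EGA4.GeomRegular
import Groth.Agent.H05EGA4.NormalTensorGeom
import Groth.Agent.H05EGA4.Regular
import Groth.Agent.H06Desc.Noetherian
import Groth.Agent.H05EGA4.RegHomFS
import Mathlib.AlgebraicGeometry.Noetherian

/-!
Geometric versions (stable under finite extensions of the ground field) of local ring properties
for Noetherian algebras over a field: invariance, locality, base change and descent along field
extensions. Applies to regularity and normality.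
-/

set_option autoImplicit false
set_option linter.style.haveILetI false

namespace Groth.Agent.H8Props.RegMor

open TensorProduct

universe u

/-- The properties of rings we can handle. -/
structure GoodProp (Q : ∀ (R : Type u) [CommRing R], Prop) : Prop where
  equiv : ∀ {R R' : Type u} [CommRing R] [CommRing R'] (_ : R ≃+* R'), Q R → Q R'
  loc : ∀ {R R' : Type u} [CommRing R] [CommRing R'] [Algebra R R'] (M : Submonoid R) [IsLocalization M R'],
    Q R → Q R'
  local_ : ∀ {R : Type u} [CommRing R] [IsNoetherianRing R],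
    (∀ (m : Ideal R) [m.IsMaximal], Q (Localization.AtPrime m)) → Q R
  ff : ∀ {R R' : Type u} [CommRing R] [CommRing R'] [Algebra R R'] [Module.FaithfullyFlat R R'],
    Q R' → Q R
  tensor : ∀ {k S : Type u} [Field k] [CommRing S] [Algebra k S] [IsNoetherianRing S],
    (∀ (k' : Type u) [Field k'] [Algebra k k'], Module.Finite k k' → Q (k' ⊗[k] S)) →
    ∀ (K : Type u) [Field K] [Algebra k K] [IsNoetherianRing (K ⊗[k] S)], Q (K ⊗[k] S)

theorem goodProp_regular : GoodProp.{u} (fun R _ => IsRegularRing R) where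
  equiv e h := by
    haveI := h
    exact IsRegularRing.of_ringEquiv e
  loc M _ h := by
    haveI := h
    exact H02CA.isRegularRing_of_isLocalization M
  local_ h := H05EGA4.isRegularRing_of_forall_isMaximal _ fun m _ => by
    haveI := h m
    haveI : IsLocalization (IsLocalRing.maximalIdeal (Localization.AtPrime m)).primeCompl (Localization.AtPrime m) :=
      IsLocalization.self fun x hx => IsLocalRing.notMem_maximalIdeal.mp hx
    haveI : IsRegularLocalRing (Localization.AtPrime (IsLocalRing.maximalIdeal (Localization.AtPrime m))) :=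
      IsRegularRing.isRegularLocalRing_localization _
    exact IsRegularLocalRing.of_ringEquiv (R := Localization.AtPrime (IsLocalRing.maximalIdeal (Localization.AtPrime m)))
      (IsLocalization.algEquiv (IsLocalRing.maximalIdeal (Localization.AtPrime m)).primeCompl _
        (Localization.AtPrime m)).toRingEquiv
  ff {R R'} _ _ _ _ h := by
    haveI := h
    exact H02CA.isRegularRing_of_faithfullyFlat R R'
  tensor h K _ _ _ := H05EGA4.isRegularRing_tensor_of_isGeometricallyRegular h K

theorem goodProp_normal : GoodProp.{u} (fun R _ => EGA4.IsNormalRing R) where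
  equiv e h := H05EGA4.isNormalRing_of_ringEquiv e h
  loc M _ h := H05EGA4.isNormalRing_of_isLocalization M h
  local_ {R} _ _ h := by
    intro p _
    obtain ⟨m, hm, hpm⟩ := Ideal.exists_le_maximal p (Ideal.IsPrime.ne_top ‹_›)
    exact H05EGA4.normal_atPrime_of_isLocalization m.primeCompl (h m) p fun x hx hxp => hx (hpm hxp)
  ff {R R'} _ _ _ _ h := H05EGA4.isNormalRing_of_faithfullyFlat h
  tensor {k S} _ _ _ _ h K _ _ _ :=
    H05EGA4.isNormalRing_of_ringEquiv (Algebra.TensorProduct.comm k S K).toRingEquiv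
      (H05EGA4.isNormalRing_tensor_of_isGeomNormal_general h K
        (fun p _ => ⟨inferInstance, inferInstance⟩))

variable (Q : ∀ (R : Type u) [CommRing R], Prop)

/-- `Q` holds after all finite extensions of the ground field, and the algebra is Noetherian. -/
def Geo (k : Type u) [Field k] (S : Type u) [CommRing S] [Algebra k S] : Prop :=
  IsNoetherianRing S ∧ ∀ (k' : Type u) [Field k'] [Algebra k k'], Module.Finite k k' → Q (k' ⊗[k] S)

variable {Q}

theorem Geo.noeth {k S : Type u} [Field k] [CommRing S] [Algebra k S] (h : Geo Q k S) :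
    IsNoetherianRing S := h.1

theorem Geo.of_equiv (hQ : GoodProp Q) {k S k₂ S₂ : Type u} [Field k] [CommRing S] [Algebra k S]
    [Field k₂] [CommRing S₂] [Algebra k₂ S₂] (e : k ≃+* k₂) (E : S ≃+* S₂)
    (hE : ∀ a, E (algebraMap k S a) = algebraMap k₂ S₂ (e a)) (h : Geo Q k S) : Geo Q k₂ S₂ := by
  refine ⟨haveI := h.1; isNoetherianRing_of_ringEquiv S E, fun K _ _ hK => ?_⟩
  letI : Algebra k k₂ := e.toRingHom.toAlgebra
  letI : Algebra k K := ((algebraMap k₂ K).comp e.toRingHom).toAlgebra
  haveI : IsScalarTower k k₂ K := .of_algebraMap_eq' rfl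
  haveI : Module.Finite k k₂ := Module.Finite.of_surjective (Algebra.linearMap k k₂) e.surjective
  haveI : Module.Finite k K := Module.Finite.trans k₂ K
  letI : Algebra k S₂ := ((algebraMap k₂ S₂).comp e.toRingHom).toAlgebra
  haveI : IsScalarTower k k₂ S₂ := .of_algebraMap_eq' rfl
  let E' : S ≃ₐ[k] S₂ := AlgEquiv.ofRingEquiv (f := E) hE
  let fwd : K ⊗[k] S →ₐ[k] K ⊗[k₂] S₂ :=
    Algebra.TensorProduct.lift (Algebra.TensorProduct.includeLeft : K →ₐ[k] K ⊗[k₂] S₂)
      (((Algebra.TensorProduct.includeRight : S₂ →ₐ[k₂] K ⊗[k₂] S₂).restrictScalars k).comp E'.toAlgHom)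
      (fun _ _ => Commute.all _ _)
  letI : Algebra k₂ (K ⊗[k] S) := Algebra.TensorProduct.leftAlgebra
  let bwdR : S₂ →ₐ[k₂] K ⊗[k] S :=
    { ((Algebra.TensorProduct.includeRight : S →ₐ[k] K ⊗[k] S).comp E'.symm.toAlgHom).toRingHom with
      commutes' := fun a => by
        obtain ⟨b, rfl⟩ := e.surjective a
        show (1 : K) ⊗ₜ[k] E.symm (algebraMap k₂ S₂ (e b)) = _
        rw [← hE, E.symm_apply_apply, Algebra.algebraMap_eq_smul_one b, TensorProduct.tmul_smul,
          TensorProduct.smul_tmul', ← Algebra.algebraMap_eq_smul_one]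
        rfl }
  let bwd : K ⊗[k₂] S₂ →ₐ[k₂] K ⊗[k] S :=
    Algebra.TensorProduct.lift (Algebra.TensorProduct.includeLeft : K →ₐ[k₂] K ⊗[k] S) bwdR
      (fun _ _ => Commute.all _ _)
  have h1 : fwd.toRingHom.comp bwd.toRingHom = RingHom.id _ := by
    refine RingHom.ext fun z => ?_
    induction z using TensorProduct.induction_on with
    | zero => simp
    | tmul a b => simp [fwd, bwd, bwdR, E', Algebra.TensorProduct.tmul_mul_tmul]
    | add a b ha hb => simp only [map_add, ha, hb]
  have h2 : bwd.toRingHom.comp fwd.toRingHom = RingHom.id _ := by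
    refine RingHom.ext fun z => ?_
    induction z using TensorProduct.induction_on with
    | zero => simp
    | tmul a b => simp [fwd, bwd, bwdR, E', Algebra.TensorProduct.tmul_mul_tmul]
    | add a b ha hb => simp only [map_add, ha, hb]
  exact hQ.equiv (RingEquiv.ofRingHom fwd.toRingHom bwd.toRingHom h1 h2) (h.2 K ‹_›)

theorem Geo.of_algEquiv (hQ : GoodProp Q) {k S S₂ : Type u} [Field k] [CommRing S] [Algebra k S]
    [CommRing S₂] [Algebra k S₂] (E : S ≃ₐ[k] S₂) (h : Geo Q k S) : Geo Q k S₂ :=
  h.of_equiv hQ (RingEquiv.refl k) E.toRingEquiv fun a => E.commutes a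

theorem Geo.of_isLocalization (hQ : GoodProp Q) {k S S₂ : Type u} [Field k] [CommRing S] [Algebra k S]
    [CommRing S₂] [Algebra k S₂] [Algebra S S₂] [IsScalarTower k S S₂] (M : Submonoid S)
    [IsLocalization M S₂] (h : Geo Q k S) : Geo Q k S₂ := by
  haveI := h.1
  refine ⟨IsLocalization.isNoetherianRing M S₂ inferInstance, fun K _ _ hK => ?_⟩
  letI := (Algebra.TensorProduct.map (AlgHom.id k K) (IsScalarTower.toAlgHom k S S₂)).toRingHom.toAlgebra
  haveI := H05EGA4.isLocalization_tensor_right k S S₂ K M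
  exact hQ.loc (M.map (Algebra.TensorProduct.includeRight : S →ₐ[k] K ⊗[k] S).toRingHom) (h.2 K hK)

theorem Geo.of_span (hQ : GoodProp Q) {k S : Type u} [Field k] [CommRing S] [Algebra k S]
    (s : Set S) (hs : Ideal.span s = ⊤) (h : ∀ g ∈ s, Geo Q k (Localization.Away g)) : Geo Q k S := by
  have hN : IsNoetherianRing S := by
    obtain ⟨t, hts, ht⟩ := (Ideal.span_eq_top_iff_finite s).mp hs
    exact AlgebraicGeometry.isNoetherianRing_of_away t ht fun x => (h x.1 (hts x.2)).1
  refine ⟨hN, fun K _ _ hK => ?_⟩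
  haveI : IsNoetherianRing (K ⊗[k] S) := H02CA.isNoetherianRing_tensor_of_essFiniteType k S K
  refine hQ.local_ fun m _ => ?_
  let ι := (Algebra.TensorProduct.includeRight : S →ₐ[k] K ⊗[k] S).toRingHom
  obtain ⟨g, hg, hgm⟩ : ∃ g ∈ s, g ∉ m.comap ι := by
    by_contra hc
    push Not at hc
    exact Ideal.IsPrime.ne_top (I := m.comap ι) inferInstance (top_le_iff.mp (hs ▸ Ideal.span_le.mpr hc))
  let Sg := Localization.Away g
  letI := (Algebra.TensorProduct.map (AlgHom.id k K) (IsScalarTower.toAlgHom k S Sg)).toRingHom.toAlgebra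
  haveI := H05EGA4.isLocalization_tensor_right k S Sg K (Submonoid.powers g)
  let M := (Submonoid.powers g).map ι
  have hd : Disjoint (M : Set (K ⊗[k] S)) (m : Set (K ⊗[k] S)) := by
    rw [Set.disjoint_left]
    rintro _ ⟨_, ⟨n, rfl⟩, rfl⟩ hn
    exact hgm (‹m.IsMaximal›.isPrime.mem_of_pow_mem n (by rwa [map_pow] at hn))
  haveI := IsLocalization.isPrime_of_isPrime_disjoint M (K ⊗[k] Sg) m inferInstance hd
  haveI := IsLocalization.isLocalization_isLocalization_atPrime_isLocalization M
    (Localization.AtPrime (m.map (algebraMap _ (K ⊗[k] Sg)))) (m.map (algebraMap _ (K ⊗[k] Sg)))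
  have hc : (m.map (algebraMap _ (K ⊗[k] Sg))).comap (algebraMap _ (K ⊗[k] Sg)) = m :=
    IsLocalization.comap_map_of_isPrime_disjoint M _ inferInstance hd
  haveI : IsLocalization m.primeCompl (Localization.AtPrime (m.map (algebraMap _ (K ⊗[k] Sg)))) := by
    convert (inferInstance : IsLocalization.AtPrime (Localization.AtPrime (m.map (algebraMap (K ⊗[k] S) (K ⊗[k] Sg))))
      ((m.map (algebraMap (K ⊗[k] S) (K ⊗[k] Sg))).comap (algebraMap (K ⊗[k] S) (K ⊗[k] Sg)))) using 3
    rw [hc]
  refine hQ.equiv (R := Localization.AtPrime (m.map (algebraMap (K ⊗[k] S) (K ⊗[k] Sg)))) (IsLocalization.algEquiv m.primeCompl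
      (Localization.AtPrime (m.map (algebraMap _ (K ⊗[k] Sg)))) (Localization.AtPrime m)).toRingEquiv
    (hQ.loc (m.map (algebraMap _ (K ⊗[k] Sg))).primeCompl ((h g hg).2 K hK))

/-- Base change along an essentially finitely generated field extension. -/
theorem Geo.baseChange (hQ : GoodProp Q) {k S : Type u} [Field k] [CommRing S] [Algebra k S]
    (h : Geo Q k S) (K : Type u) [Field K] [Algebra k K] [Algebra.EssFiniteType k K] :
    Geo Q K (K ⊗[k] S) := by
  haveI := h.1
  refine ⟨H02CA.isNoetherianRing_tensor_of_essFiniteType k S K, fun K' _ _ hK' => ?_⟩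
  letI : Algebra k K' := ((algebraMap K K').comp (algebraMap k K)).toAlgebra
  haveI : IsScalarTower k K K' := .of_algebraMap_eq' rfl
  haveI : Algebra.EssFiniteType k K' := Algebra.EssFiniteType.comp k K K'
  haveI : IsNoetherianRing (K' ⊗[k] S) := H02CA.isNoetherianRing_tensor_of_essFiniteType k S K'
  exact hQ.equiv (Algebra.TensorProduct.cancelBaseChange k K K' K' S).symm.toRingEquiv (hQ.tensor h.2 K')

/-- Descent along an arbitrary field extension. -/
theorem Geo.of_baseChange (hQ : GoodProp Q) {k S : Type u} [Field k] [CommRing S] [Algebra k S]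
    (K : Type u) [Field K] [Algebra k K] (h : Geo Q K (K ⊗[k] S)) : Geo Q k S := by
  haveI := h.1
  refine ⟨?_, fun k' _ _ hk' => ?_⟩
  · haveI : IsNoetherianRing (S ⊗[k] K) := isNoetherianRing_of_ringEquiv _ (Algebra.TensorProduct.comm k K S).toRingEquiv
    exact H06Desc.isNoetherianRing_of_faithfullyFlat (A := S) (B := S ⊗[k] K)
  obtain ⟨L, _, _, _, _, _, _, hL⟩ := H05EGA4.exists_compositum k K k'
  have h1 : Q (L ⊗[k] S) := hQ.equiv (Algebra.TensorProduct.cancelBaseChange k K L L S).toRingEquiv (h.2 L hL)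
  letI : Algebra (k' ⊗[k] S) ((k' ⊗[k] S) ⊗[k'] L) := Algebra.TensorProduct.leftAlgebra
  exact hQ.ff (R := k' ⊗[k] S) (R' := (k' ⊗[k] S) ⊗[k'] L)
    (hQ.equiv ((Algebra.TensorProduct.cancelBaseChange k k' L L S).symm.toRingEquiv.trans
      (Algebra.TensorProduct.comm k' L (k' ⊗[k] S)).toRingEquiv) h1)

end Groth.Agent.H8Props.RegMor
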