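import Groth.Agent.H8Props.RegMor.Basic
import Mathlib.AlgebraicGeometry.Fiber
import Mathlib.AlgebraicGeometry.Morphisms.Flat
import Mathlib.Algebra.Category.Ring.Constructions

/-!
Fibres of a morphism on affine charts, and the fibrewise geometric property in terms of charts.
-/

set_option autoImplicit false
set_option linter.style.haveILetI false

namespace Groth.Agent.H8Props.RegMor

open AlgebraicGeometry CategoryTheory Limits TensorProduct

universe u

variable {Q : ∀ (R : Type u) [CommRing R], Prop}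

/-- `Geo` for a ring map out of a field. -/
def GeoMap (Q : ∀ (R : Type u) [CommRing R], Prop) {k S : Type u} [Field k] [CommRing S] (φ : k →+* S) : Prop :=
  letI := φ.toAlgebra
  Geo Q k S

theorem GeoMap.noeth {k S : Type u} [Field k] [CommRing S] {φ : k →+* S} (h : GeoMap Q φ) :
    IsNoetherianRing S := h.1

theorem GeoMap.of_equiv (hQ : GoodProp Q) {k S k₂ S₂ : Type u} [Field k] [CommRing S] [Field k₂]
    [CommRing S₂] {φ : k →+* S} {φ₂ : k₂ →+* S₂} (e : k ≃+* k₂) (E : S ≃+* S₂)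
    (hE : ∀ a, E (φ a) = φ₂ (e a)) (h : GeoMap Q φ) : GeoMap Q φ₂ := by
  letI := φ.toAlgebra
  letI := φ₂.toAlgebra
  exact Geo.of_equiv hQ e E hE h

theorem geoMap_iff (hQ : GoodProp Q) {k S k₂ S₂ : Type u} [Field k] [CommRing S] [Field k₂]
    [CommRing S₂] {φ : k →+* S} {φ₂ : k₂ →+* S₂} (e : k ≃+* k₂) (E : S ≃+* S₂)
    (hE : ∀ a, E (φ a) = φ₂ (e a)) : GeoMap Q φ ↔ GeoMap Q φ₂ :=
  ⟨GeoMap.of_equiv hQ e E hE, GeoMap.of_equiv hQ e.symm E.symm fun a => by
    rw [E.symm_apply_eq, hE, e.apply_symm_apply]⟩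

/-- The structure map of the coordinate ring of an open of a fibre. -/
noncomputable abbrev fibStr {X Y : Scheme.{u}} (f : X ⟶ Y) (y : Y) (W : (f.fiber y).Opens) :
    Y.residueField y ⟶ Γ(f.fiber y, W) :=
  (Scheme.ΓSpecIso (Y.residueField y)).inv ≫ (f.fiberToSpecResidueField y).appTop ≫
    (f.fiber y).presheaf.map (homOfLE le_top).op

/-- The property on all affine opens of the fibre over `y`. -/
def FibAt (Q : ∀ (R : Type u) [CommRing R], Prop) {X Y : Scheme.{u}} (f : X ⟶ Y) (y : Y) : Prop :=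
  ∀ W : (f.fiber y).Opens, IsAffineOpen W → GeoMap Q (fibStr f y W).hom

theorem fibStr_res {X Y : Scheme.{u}} (f : X ⟶ Y) (y : Y) {W W' : (f.fiber y).Opens} (h : W' ≤ W) :
    ((f.fiber y).presheaf.map (homOfLE h).op).hom.comp (fibStr f y W).hom = (fibStr f y W').hom := by
  rw [← CommRingCat.hom_comp]
  simp only [fibStr, Category.assoc, ← Functor.map_comp]
  rfl

theorem geoMap_basicOpen (hQ : GoodProp Q) {X Y : Scheme.{u}} (f : X ⟶ Y) (y : Y) (V : (f.fiber y).affineOpens)
    (r : Γ(f.fiber y, V.1)) (hV : GeoMap Q (fibStr f y V.1).hom) :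
    GeoMap Q (fibStr f y ((f.fiber y).basicOpen r)).hom := by
  letI := ((f.fiber y).presheaf.map (homOfLE ((f.fiber y).basicOpen_le r)).op).hom.toAlgebra
  haveI : IsLocalization.Away r Γ(f.fiber y, (f.fiber y).basicOpen r) := V.2.isLocalization_basicOpen r
  letI := (fibStr f y V.1).hom.toAlgebra
  letI := (fibStr f y ((f.fiber y).basicOpen r)).hom.toAlgebra
  haveI : IsScalarTower (Y.residueField y) Γ(f.fiber y, V.1) Γ(f.fiber y, (f.fiber y).basicOpen r) :=
    .of_algebraMap_eq' (fibStr_res f y ((f.fiber y).basicOpen_le r)).symm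
  exact Geo.of_isLocalization hQ (Submonoid.powers r) hV

theorem geo_away_of_basicOpen (hQ : GoodProp Q) {X Y : Scheme.{u}} (f : X ⟶ Y) (y : Y) (V : (f.fiber y).affineOpens)
    (r : Γ(f.fiber y, V.1)) (h : GeoMap Q (fibStr f y ((f.fiber y).basicOpen r)).hom) :
    letI := (fibStr f y V.1).hom.toAlgebra
    Geo Q (Y.residueField y) (Localization.Away r) := by
  letI := ((f.fiber y).presheaf.map (homOfLE ((f.fiber y).basicOpen_le r)).op).hom.toAlgebra
  haveI : IsLocalization.Away r Γ(f.fiber y, (f.fiber y).basicOpen r) := V.2.isLocalization_basicOpen r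
  letI := (fibStr f y V.1).hom.toAlgebra
  letI := (fibStr f y ((f.fiber y).basicOpen r)).hom.toAlgebra
  haveI : IsScalarTower (Y.residueField y) Γ(f.fiber y, V.1) Γ(f.fiber y, (f.fiber y).basicOpen r) :=
    .of_algebraMap_eq' (fibStr_res f y ((f.fiber y).basicOpen_le r)).symm
  exact Geo.of_algEquiv hQ ((IsLocalization.algEquiv (Submonoid.powers r) Γ(f.fiber y, (f.fiber y).basicOpen r)
    (Localization.Away r)).restrictScalars (Y.residueField y)) h

/-- The property on the fibre may be checked on an affine open cover. -/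
theorem fibAt_of_cover (hQ : GoodProp Q) {X Y : Scheme.{u}} (f : X ⟶ Y) (y : Y) {ι : Type*}
    (U : ι → (f.fiber y).affineOpens) (hU : (⨆ i, (U i : (f.fiber y).Opens)) = ⊤)
    (h : ∀ i, GeoMap Q (fibStr f y (U i)).hom) : FibAt Q f y := by
  intro W hW
  refine of_affine_open_cover (P := fun V => GeoMap Q (fibStr f y V.1).hom) U hU ⟨W, hW⟩ ?_ ?_ h
  · intro V r hV
    exact geoMap_basicOpen hQ f y V r hV
  · intro V s hs hP
    letI := (fibStr f y V.1).hom.toAlgebra
    refine Geo.of_span hQ (s : Set Γ(f.fiber y, V.1)) hs fun g hg => ?_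
    exact geo_away_of_basicOpen hQ f y V g (hP ⟨g, hg⟩)

theorem fromSpecResidueField_appLE {Y : Scheme.{u}} (y : Y) (V : Y.Opens) (hy : y ∈ V)
    (hle : (⊤ : (Spec (Y.residueField y)).Opens) ≤ Y.fromSpecResidueField y ⁻¹ᵁ V) :
    (Y.fromSpecResidueField y).appLE V ⊤ hle =
      Y.evaluation V y hy ≫ (Scheme.ΓSpecIso (Y.residueField y)).inv := by
  have key : ∀ (φ : Spec (Y.residueField y) ⟶ Spec (Y.presheaf.stalk y))
      (hle : (⊤ : (Spec (Y.residueField y)).Opens) ≤ (φ ≫ Y.fromSpecStalk y) ⁻¹ᵁ V),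
      (φ ≫ Y.fromSpecStalk y).appLE V ⊤ hle =
        Y.presheaf.germ V y hy ≫ (Scheme.ΓSpecIso _).inv ≫ φ.appTop := by
    intro φ hle
    rw [← Scheme.Hom.appLE_comp_appLE φ (Y.fromSpecStalk y) V ⊤ ⊤
      (fun s _ => show Y.fromSpecStalk y s ∈ V from
        (Y.range_fromSpecStalk (x := y)).le ⟨s, rfl⟩ |>.mem_open V.2 hy) le_top]
    simp only [Scheme.Hom.appLE, Scheme.fromSpecStalk_app hy, Category.assoc]
    rw [← Functor.map_comp_assoc]
    erw [(Spec (Y.presheaf.stalk y)).presheaf.map_id]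
    rw [Category.id_comp]
    erw [(Spec (Y.residueField y)).presheaf.map_id]
    erw [Category.comp_id]
  rw [← Scheme.germ_residue, Category.assoc, Scheme.ΓSpecIso_inv_naturality]
  exact key (Spec.map (Y.residue y)) hle

theorem exists_residueFieldEquiv {Y : Scheme.{u}} {V : Y.Opens} (hV : IsAffineOpen V) (y : Y) (hy : y ∈ V) :
    ∃ e : (hV.primeIdealOf ⟨y, hy⟩).asIdeal.ResidueField ≃+* Y.residueField y,
      ∀ a, e (algebraMap Γ(Y, V) _ a) = (Y.evaluation V y hy).hom a := by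
  set p := (hV.primeIdealOf ⟨y, hy⟩).asIdeal
  letI := (Y.presheaf.germ V y hy).hom.toAlgebra
  haveI : IsLocalization.AtPrime (Y.presheaf.stalk y) p := hV.isLocalization_stalk ⟨y, hy⟩
  have hker : ∀ a, (Y.evaluation V y hy).hom a = 0 ↔ a ∈ p := fun a => by
    rw [← IsLocalization.AtPrime.to_map_mem_maximal_iff (Y.presheaf.stalk y) p a]
    exact IsLocalRing.residue_eq_zero_iff _
  let l : p.ResidueField →+* Y.residueField y :=
    Ideal.ResidueField.lift p (Y.evaluation V y hy).hom (fun a ha => (hker a).mpr ha)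
      fun a ha => isUnit_iff_ne_zero.mpr fun h0 => ha ((hker a).mp h0)
  have hl : ∀ a, l (algebraMap Γ(Y, V) _ a) = (Y.evaluation V y hy).hom a := fun a =>
    Ideal.ResidueField.lift_algebraMap (I := p) _ _ _ a
  refine ⟨RingEquiv.ofBijective l ⟨l.injective, fun z => ?_⟩, hl⟩
  obtain ⟨z, rfl⟩ := IsLocalRing.residue_surjective z
  obtain ⟨a, s, rfl⟩ := IsLocalization.exists_mk'_eq p.primeCompl z
  refine ⟨algebraMap _ _ a / algebraMap _ _ s.1, ?_⟩
  rw [map_div₀, hl, hl, div_eq_iff (fun h0 => s.2 ((hker _).mp h0))]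
  exact ((congrArg (IsLocalRing.residue (Y.presheaf.stalk y)) (IsLocalization.mk'_spec _ a s)).symm.trans
    (map_mul (IsLocalRing.residue (Y.presheaf.stalk y)) _ _))

/-- The fibre ring of a chart is the coordinate ring of the preimage in the fibre. -/
theorem geoMap_chart (hQ : GoodProp Q) {X Y : Scheme.{u}} (f : X ⟶ Y) (y : Y) {U : X.Opens} {V : Y.Opens}
    (hU : IsAffineOpen U) (hV : IsAffineOpen V) (hUV : U ≤ f ⁻¹ᵁ V) (hy : y ∈ V) :
    IsAffineOpen (f.fiberι y ⁻¹ᵁ U) ∧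
      ((letI := (f.appLE V U hUV).hom.toAlgebra
        Geo Q (hV.primeIdealOf ⟨y, hy⟩).asIdeal.ResidueField ((hV.primeIdealOf ⟨y, hy⟩).asIdeal.Fiber Γ(X, U))) ↔
      GeoMap Q (fibStr f y (f.fiberι y ⁻¹ᵁ U)).hom) := by
  have H : IsPullback (f.fiberι y) (f.fiberToSpecResidueField y) f (Y.fromSpecResidueField y) :=
    IsPullback.of_hasPullback _ _
  have hT : (⊤ : (Spec (Y.residueField y)).Opens) ≤ Y.fromSpecResidueField y ⁻¹ᵁ V :=
    fun s _ => show Y.fromSpecResidueField y s ∈ V by rw [Scheme.fromSpecResidueField_apply]; exact hy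
  have hW : f.fiberι y ⁻¹ᵁ U = f.fiberι y ⁻¹ᵁ U ⊓ f.fiberToSpecResidueField y ⁻¹ᵁ ⊤ := by simp
  haveI : IsAffine U := hU
  haveI : IsAffine V := hV
  have hTa : IsAffineOpen (⊤ : (Spec (Y.residueField y)).Opens) := isAffineOpen_top _
  haveI : IsAffine (⊤ : (Spec (Y.residueField y)).Opens) := hTa
  refine ⟨.of_isIso (Scheme.Hom.isPullback_resLE H hT hUV hW).isoPullback.hom, ?_⟩
  set p := (hV.primeIdealOf ⟨y, hy⟩).asIdeal
  letI := (f.appLE V U hUV).hom.toAlgebra
  obtain ⟨e, he⟩ := exists_residueFieldEquiv hV y hy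
  have hsq := (isIso_pushoutSection_iff H hT hUV hW).mp
    (isIso_pushoutSection_of_isAffineOpen H hT hUV hW hV hTa hU)
  rw [fromSpecResidueField_appLE y V hy hT] at hsq
  let ek : CommRingCat.of p.ResidueField ≅ Y.residueField y := e.toCommRingCatIso
  have hsq' : IsPushout (CommRingCat.ofHom (algebraMap Γ(Y, V) p.ResidueField))
      (CommRingCat.ofHom (algebraMap Γ(Y, V) Γ(X, U))) (ek.hom ≫ fibStr f y (f.fiberι y ⁻¹ᵁ U))
      ((f.fiberι y).appLE U (f.fiberι y ⁻¹ᵁ U) le_rfl) := by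
    refine hsq.flip.of_iso (Iso.refl _) (ek ≪≫ (Scheme.ΓSpecIso (Y.residueField y)).symm).symm (Iso.refl _)
      (Iso.refl _) ?_ ?_ ?_ ?_
    · simp only [Iso.refl_hom, Category.id_comp, Iso.trans_symm, Iso.trans_hom, Iso.symm_hom,
        Iso.symm_symm_eq, Category.assoc, Iso.inv_hom_id_assoc]
      rw [Iso.comp_inv_eq]
      ext a
      exact (he a).symm
    · simp [RingHom.algebraMap_toAlgebra]
    · simp only [Iso.refl_hom, Category.comp_id, Iso.trans_symm, Iso.trans_hom, Iso.symm_hom,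
        Iso.symm_symm_eq, Category.assoc, Iso.inv_hom_id_assoc, fibStr]
      rw [Scheme.Hom.appTop]
      simp [Scheme.Hom.appLE]
    · simp
  let I := IsPushout.isoIsPushout _ _
    (CommRingCat.isPushout_tensorProduct Γ(Y, V) p.ResidueField Γ(X, U)) hsq'
  have hI := IsPushout.inl_isoIsPushout_hom _ _
    (CommRingCat.isPushout_tensorProduct Γ(Y, V) p.ResidueField Γ(X, U)) hsq'
  have h1 := geoMap_iff (Q := Q) (φ := algebraMap p.ResidueField (p.Fiber Γ(X, U)))
    (φ₂ := (fibStr f y (f.fiberι y ⁻¹ᵁ U)).hom) hQ e I.commRingCatIsoToRingEquiv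
    (fun a => congrArg (fun t => t.hom a) hI)
  have hA : (algebraMap p.ResidueField (p.Fiber Γ(X, U))).toAlgebra = (inferInstance : Algebra _ _) :=
    Algebra.algebra_ext _ _ fun _ => rfl
  unfold GeoMap at h1 ⊢
  rw [hA] at h1
  exact h1

end Groth.Agent.H8Props.RegMor
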