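import Groth.Agent.H8Props.RegMor.Main

/-!
`HomProp` for regularity and normality in terms of regular / normal ring maps.
-/

set_option autoImplicit false
set_option linter.style.haveILetI false

namespace Groth.Agent.H8Props.RegMor

open AlgebraicGeometry CategoryTheory Limits TensorProduct

universe u

theorem forall_isRegularHom_iff {X Y : Scheme.{u}} (f : X ⟶ Y) (hN : ∀ y : Y, IsLocallyNoetherian (f.fiber y)) :
    (∀ (U : X.Opens) (V : Y.Opens) (_ : IsAffineOpen U) (_ : IsAffineOpen V) (hUV : U ≤ f ⁻¹ᵁ V),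
        letI := (f.appLE V U hUV).hom.toAlgebra
        CAlg.IsRegularHom Γ(Y, V) Γ(X, U)) ↔ HomProp (fun R _ => IsRegularRing R) f := by
  constructor
  · intro h U V hU hV hUV
    exact ⟨(h U V hU hV hUV).1, fun p hp => ((h U V hU hV hUV).2 p).2⟩
  · intro h U V hU hV hUV
    refine ⟨(h U V hU hV hUV).1, fun p hp => ⟨?_, (h U V hU hV hUV).2 p⟩⟩
    have hy : hV.fromSpec ⟨p, hp⟩ ∈ V := hV.range_fromSpec.le ⟨⟨p, hp⟩, rfl⟩
    have hpeq : hV.primeIdealOf ⟨_, hy⟩ = ⟨p, hp⟩ :=
      hV.fromSpec.isOpenEmbedding.injective (hV.fromSpec_primeIdealOf ⟨_, hy⟩)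
    haveI := hN (hV.fromSpec ⟨p, hp⟩)
    have := isNoetherianRing_fiber_chart f _ hU hV hUV hy
    revert this
    rw [hpeq]
    exact fun this => this

end Groth.Agent.H8Props.RegMor
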