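import Groth.Agent.H8Props.RegMor.Chart
import Groth.Agent.H13Desc.Flat
import Mathlib.AlgebraicGeometry.Morphisms.FiniteType
import Mathlib.AlgebraicGeometry.Morphisms.FinitePresentation

/-!
Morphisms with geometrically regular / normal fibres: affine-local characterisation and
invariance under fppf base change.
-/

set_option autoImplicit false
set_option linter.style.haveILetI false

namespace Groth.Agent.H8Props.RegMor

open AlgebraicGeometry CategoryTheory Limits TensorProduct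

universe u

variable {Q : ∀ (R : Type u) [CommRing R], Prop}

/-- Trivial property, to track Noetherianity alone. -/
theorem goodProp_true : GoodProp.{u} (fun _ _ => True) where
  equiv _ _ := trivial
  loc _ _ _ := trivial
  local_ _ := trivial
  ff _ := trivial
  tensor _ _ _ _ _ := trivial

theorem geoMap_mk {k S : Type u} [Field k] [CommRing S] {φ : k →+* S} (h : IsNoetherianRing S) :
    GeoMap (fun _ _ => True) φ :=
  letI := φ.toAlgebra
  ⟨h, fun _ _ _ _ => trivial⟩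

theorem isLocallyNoetherian_fiber_iff {X Y : Scheme.{u}} (f : X ⟶ Y) (y : Y) :
    IsLocallyNoetherian (f.fiber y) ↔ FibAt (fun _ _ => True) f y :=
  ⟨fun h W hW => geoMap_mk (h.component_noetherian ⟨W, hW⟩), fun h => ⟨fun W => (h W.1 W.2).noeth⟩⟩

/-- The affine-local property: flat ring maps with geometrically `Q` fibres. -/
def HomProp (Q : ∀ (R : Type u) [CommRing R], Prop) {X Y : Scheme.{u}} (f : X ⟶ Y) : Prop :=
  ∀ (U : X.Opens) (V : Y.Opens) (_ : IsAffineOpen U) (_ : IsAffineOpen V) (hUV : U ≤ f ⁻¹ᵁ V),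
    letI := (f.appLE V U hUV).hom.toAlgebra
    Module.Flat Γ(Y, V) Γ(X, U) ∧ ∀ (p : Ideal Γ(Y, V)) [p.IsPrime] (k' : Type u) [Field k']
      [Algebra p.ResidueField k'], Module.Finite p.ResidueField k' → Q (k' ⊗[p.ResidueField] p.Fiber Γ(X, U))

theorem iSup_preimage_eq_top {X Y : Scheme.{u}} (f : X ⟶ Y) (y : Y) :
    (⨆ i : {UV : X.affineOpens × Y.affineOpens // UV.1.1 ≤ f ⁻¹ᵁ UV.2.1 ∧ y ∈ UV.2.1},
      f.fiberι y ⁻¹ᵁ i.1.1.1) = ⊤ := by
  refine top_le_iff.mp fun x _ => TopologicalSpace.Opens.mem_iSup.mpr ?_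
  obtain ⟨_, ⟨V, hV, rfl⟩, hyV, -⟩ := Y.isBasis_affineOpens.exists_subset_of_mem_open (Set.mem_univ y) isOpen_univ
  have hfx : f (f.fiberι y x) = y := by
    have : f.fiberι y x ∈ f ⁻¹' {y} := f.range_fiberι y ▸ ⟨x, rfl⟩
    exact this
  obtain ⟨_, ⟨U, hU, rfl⟩, hxU, hUV⟩ := X.isBasis_affineOpens.exists_subset_of_mem_open
    (show f.fiberι y x ∈ f ⁻¹ᵁ V by show f (f.fiberι y x) ∈ V; rw [hfx]; exact hyV) (f ⁻¹ᵁ V).2
  exact ⟨⟨⟨⟨U, hU⟩, ⟨V, hV⟩⟩, hUV, hyV⟩, hxU⟩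

theorem isNoetherianRing_fiber_chart {X Y : Scheme.{u}} (f : X ⟶ Y) (y : Y) [IsLocallyNoetherian (f.fiber y)]
    {U : X.Opens} {V : Y.Opens} (hU : IsAffineOpen U) (hV : IsAffineOpen V) (hUV : U ≤ f ⁻¹ᵁ V) (hy : y ∈ V) :
    letI := (f.appLE V U hUV).hom.toAlgebra
    IsNoetherianRing ((hV.primeIdealOf ⟨y, hy⟩).asIdeal.Fiber Γ(X, U)) := by
  letI := (f.appLE V U hUV).hom.toAlgebra
  obtain ⟨hW, hiff⟩ := geoMap_chart goodProp_true f y hU hV hUV hy
  exact (hiff.mpr (geoMap_mk (IsLocallyNoetherian.component_noetherian ⟨_, hW⟩))).1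

theorem homProp_iff (hQ : GoodProp Q) {X Y : Scheme.{u}} (f : X ⟶ Y)
    (hN : ∀ y : Y, IsLocallyNoetherian (f.fiber y)) :
    HomProp Q f ↔ Flat f ∧ ∀ y, FibAt Q f y := by
  constructor
  · intro h
    refine ⟨⟨fun {V} hV {U} hU e => (h U V hU hV e).1⟩, fun y => ?_⟩
    haveI := hN y
    refine fibAt_of_cover hQ f y (fun i : {UV : X.affineOpens × Y.affineOpens // UV.1.1 ≤ f ⁻¹ᵁ UV.2.1 ∧ y ∈ UV.2.1} =>
      ⟨f.fiberι y ⁻¹ᵁ i.1.1.1, (geoMap_chart hQ f y i.1.1.2 i.1.2.2 i.2.1 i.2.2).1⟩)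
      (iSup_preimage_eq_top f y) fun i => ?_
    refine (geoMap_chart hQ f y i.1.1.2 i.1.2.2 i.2.1 i.2.2).2.mp ?_
    exact ⟨isNoetherianRing_fiber_chart f y i.1.1.2 i.1.2.2 i.2.1 i.2.2,
      (h _ _ i.1.1.2 i.1.2.2 i.2.1).2 _⟩
  · rintro ⟨hf, h⟩ U V hU hV hUV
    refine ⟨hf.flat_appLE hV hU hUV, fun p hp => ?_⟩
    let y : Y := hV.fromSpec ⟨p, hp⟩
    have hy : y ∈ V := hV.range_fromSpec.le ⟨⟨p, hp⟩, rfl⟩
    have hpeq : hV.primeIdealOf ⟨y, hy⟩ = ⟨p, hp⟩ :=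
      hV.fromSpec.isOpenEmbedding.injective (hV.fromSpec_primeIdealOf ⟨y, hy⟩)
    obtain ⟨hW, hiff⟩ := geoMap_chart hQ f y hU hV hUV hy
    obtain ⟨-, hgeo⟩ := hiff.mpr (h y _ hW)
    clear hiff hW
    revert hgeo
    rw [hpeq]
    exact fun hgeo => hgeo

theorem isPushout_fiber_baseChange {X Y X' Y' : Scheme.{u}} {f : X ⟶ Y} {f' : X' ⟶ Y'} {g' : X' ⟶ X}
    {g : Y' ⟶ Y} (_hc : IsPullback g' f' f g) (y' : Y') (W : (f.fiber (g y')).Opens) (hW : IsAffineOpen W)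
    (π : f'.fiber y' ⟶ f.fiber (g y'))
    (H : IsPullback π (f'.fiberToSpecResidueField y') (f.fiberToSpecResidueField (g y')) (Spec.map (g.residueFieldMap y'))) :
    IsAffineOpen (π ⁻¹ᵁ W) ∧
      IsPushout (g.residueFieldMap y') (fibStr f (g y') W) (fibStr f' y' (π ⁻¹ᵁ W))
        (π.appLE W (π ⁻¹ᵁ W) le_rfl) := by
  have hT : (⊤ : (Spec (Y'.residueField y')).Opens) ≤ Spec.map (g.residueFieldMap y') ⁻¹ᵁ ⊤ := le_top
  have hUV : W ≤ f.fiberToSpecResidueField (g y') ⁻¹ᵁ ⊤ := le_top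
  have hWeq : π ⁻¹ᵁ W = π ⁻¹ᵁ W ⊓ f'.fiberToSpecResidueField y' ⁻¹ᵁ ⊤ := by simp
  have hTa : IsAffineOpen (⊤ : (Spec (Y'.residueField y')).Opens) := isAffineOpen_top _
  have hSa : IsAffineOpen (⊤ : (Spec (Y.residueField (g y'))).Opens) := isAffineOpen_top _
  haveI : IsAffine W := hW
  haveI : IsAffine (⊤ : (Spec (Y'.residueField y')).Opens) := hTa
  haveI : IsAffine (⊤ : (Spec (Y.residueField (g y'))).Opens) := hSa
  refine ⟨.of_isIso (Scheme.Hom.isPullback_resLE H hT hUV hWeq).isoPullback.hom, ?_⟩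
  have hsq := (isIso_pushoutSection_iff H hT hUV hWeq).mp
    (isIso_pushoutSection_of_isAffineOpen H hT hUV hWeq hSa hTa hW)
  have e1 : (Spec.map (g.residueFieldMap y')).appLE ⊤ ⊤ hT = (Spec.map (g.residueFieldMap y')).appTop := by
    simp [Scheme.Hom.appLE, Scheme.Hom.appTop]
  rw [e1] at hsq
  refine hsq.flip.of_iso (Scheme.ΓSpecIso _) (Scheme.ΓSpecIso _) (Iso.refl _) (Iso.refl _) ?_ ?_ ?_ ?_
  · simp [Scheme.ΓSpecIso_naturality]
  · simp [fibStr, Scheme.Hom.appLE, Scheme.Hom.appTop]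
  · simp [fibStr, Scheme.Hom.appLE, Scheme.Hom.appTop]
  · simp

theorem geoMap_baseChange_iff (hQ : GoodProp Q) {k K S S' : Type u} [Field k] [Field K] [CommRing S] [CommRing S']
    {ρ : k →+* K} {φ : k →+* S} {φ' : K →+* S'} {ψ : S →+* S'}
    (h : IsPushout (CommRingCat.ofHom ρ) (CommRingCat.ofHom φ) (CommRingCat.ofHom φ') (CommRingCat.ofHom ψ)) :
    ((ρ.EssFiniteType → GeoMap Q φ → GeoMap Q φ') ∧ (GeoMap Q φ' → GeoMap Q φ)) := by
  letI := ρ.toAlgebra
  letI := φ.toAlgebra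
  letI := φ'.toAlgebra
  let I := IsPushout.isoIsPushout _ _ (CommRingCat.isPushout_tensorProduct k K S) h
  have hI := IsPushout.inl_isoIsPushout_hom _ _ (CommRingCat.isPushout_tensorProduct k K S) h
  let E : K ⊗[k] S ≃ₐ[K] S' := AlgEquiv.ofRingEquiv (f := I.commRingCatIsoToRingEquiv)
    fun a => congrArg (fun t => t.hom a) hI
  refine ⟨fun hρ hS => ?_, fun hS' => ?_⟩
  · haveI : Algebra.EssFiniteType k K := hρ
    exact Geo.of_algEquiv hQ E (Geo.baseChange hQ (S := S) hS K)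
  · exact Geo.of_baseChange hQ K (Geo.of_algEquiv hQ E.symm hS')

theorem fibAt_baseChange_iff (hQ : GoodProp Q) {X Y X' Y' : Scheme.{u}} {f : X ⟶ Y} {f' : X' ⟶ Y'}
    {g' : X' ⟶ X} {g : Y' ⟶ Y} [LocallyOfFiniteType g] (hc : IsPullback g' f' f g) (y' : Y') :
    FibAt Q f (g y') ↔ FibAt Q f' y' := by
  let π : f'.fiber y' ⟶ f.fiber (g y') :=
    pullback.map _ _ _ _ g' (Spec.map (g.residueFieldMap y')) g hc.w.symm (by simp)
  have H : IsPullback π (f'.fiberToSpecResidueField y') (f.fiberToSpecResidueField (g y'))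
      (Spec.map (g.residueFieldMap y')) := isPullback_fiberToSpecResidueField_of_isPullback hc y'
  have hess : (g.residueFieldMap y').hom.EssFiniteType := by
    have h1 : (g.stalkMap y' ≫ Y'.residue y').hom.EssFiniteType :=
      RingHom.EssFiniteType.comp (LocallyOfFiniteType.stalkMap g y') (RingHom.FiniteType.essFiniteType
        (RingHom.FiniteType.of_surjective _ (Y'.residue_surjective y')))
    rw [← Scheme.residue_residueFieldMap] at h1
    exact RingHom.EssFiniteType.of_comp _ h1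
  constructor
  · intro h
    refine fibAt_of_cover hQ f' y' (fun W : (f.fiber (g y')).affineOpens =>
      ⟨π ⁻¹ᵁ W.1, (isPushout_fiber_baseChange hc y' W.1 W.2 π H).1⟩) ?_ fun W => ?_
    · show (⨆ W : (f.fiber (g y')).affineOpens, π ⁻¹ᵁ W.1) = ⊤
      rw [← Scheme.Hom.preimage_iSup, iSup_affineOpens_eq_top (f.fiber (g y')), Scheme.Hom.preimage_top]
    · exact (geoMap_baseChange_iff hQ (isPushout_fiber_baseChange hc y' W.1 W.2 π H).2).1 hess (h W.1 W.2)
  · intro h W hW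
    obtain ⟨hW', hp⟩ := isPushout_fiber_baseChange hc y' W hW π H
    exact (geoMap_baseChange_iff hQ hp).2 (h _ hW')

/-- Invariance of "flat with geometrically `Q` locally Noetherian fibres" under fppf base change. -/
theorem homProp_baseChange_iff (hQ : GoodProp Q) {X Y X' Y' : Scheme.{u}} (f : X ⟶ Y) (f' : X' ⟶ Y')
    (g' : X' ⟶ X) (g : Y' ⟶ Y) [Flat g] [LocallyOfFinitePresentation g] [Surjective g]
    (hc : IsPullback g' f' f g) :
    ((∀ y : Y, IsLocallyNoetherian (f.fiber y)) ∧ HomProp Q f) ↔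
      ((∀ y' : Y', IsLocallyNoetherian (f'.fiber y')) ∧ HomProp Q f') := by
  have hfib : ∀ {R : ∀ (R : Type u) [CommRing R], Prop}, GoodProp R → ((∀ y, FibAt R f y) ↔ ∀ y', FibAt R f' y') := by
    intro R hR
    refine ⟨fun h y' => (fibAt_baseChange_iff hR hc y').mp (h _), fun h y => ?_⟩
    obtain ⟨y', rfl⟩ := g.surjective y
    exact (fibAt_baseChange_iff hR hc y').mpr (h y')
  have hN : (∀ y : Y, IsLocallyNoetherian (f.fiber y)) ↔ ∀ y' : Y', IsLocallyNoetherian (f'.fiber y') := by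
    simp only [isLocallyNoetherian_fiber_iff]
    exact hfib goodProp_true
  have hflat : Flat f ↔ Flat f' := by
    refine ⟨fun h => MorphismProperty.of_isPullback (P := @Flat) hc h, fun h => ?_⟩
    haveI : Flat g' := MorphismProperty.of_isPullback (P := @Flat) hc.flip inferInstance
    haveI : Surjective g' := MorphismProperty.of_isPullback (P := @Surjective) hc.flip inferInstance
    haveI : Flat (g' ≫ f) := by rw [hc.w]; infer_instance
    exact H13Desc.flat_of_refinement g' f (𝟙 X')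
  constructor
  · rintro ⟨h1, h2⟩
    obtain ⟨h3, h4⟩ := (homProp_iff hQ f h1).mp h2
    exact ⟨hN.mp h1, (homProp_iff hQ f' (hN.mp h1)).mpr ⟨hflat.mp h3, (hfib hQ).mp h4⟩⟩
  · rintro ⟨h1, h2⟩
    obtain ⟨h3, h4⟩ := (homProp_iff hQ f' h1).mp h2
    exact ⟨hN.mpr h1, (homProp_iff hQ f (hN.mpr h1)).mpr ⟨hflat.mpr h3, (hfib hQ).mpr h4⟩⟩

end Groth.Agent.H8Props.RegMor
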